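import Mathlib.LinearAlgebra.Alternating.Uncurry.Fin
import Mathlib.RingTheory.Spectrum.Prime.FreeLocus
import Mathlib.Algebra.Module.FinitePresentation
import Mathlib.LinearAlgebra.Determinant

/-!
# Local frames of finite projective modules of constant rank
-/

set_option autoImplicit false
universe u v w

namespace Groth.Agent.LocInt28

variable {B : Type u} [CommRing B] {P : Type v} [AddCommGroup P] [Module B P]
  [Module.Finite B P] [Module.Projective B P] {n : ℕ}

theorem exists_frame (p : PrimeSpectrum B) (hn : Module.rankAtStalk P p = n) :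
    ∃ (q : Fin n → P) (f : Fin n → (P →ₗ[B] B)),
      (Matrix.of fun i j => f i (q j)).det ∉ p.asIdeal ∧
      ∀ x : P, ∃ c ∉ p.asIdeal, c • x ∈ Submodule.span B (Set.range q) := by
  classical
  let T := p.asIdeal.primeCompl
  let Bp := Localization.AtPrime p.asIdeal
  let g := LocalizedModule.mkLinearMap T P
  haveI : Module.FinitePresentation B P := Module.finitePresentation_of_projective B P
  haveI : Module.Free Bp (LocalizedModule T P) := Module.free_of_flat_of_isLocalRing
  let b := Module.finBasisOfFinrankEq Bp (LocalizedModule T P) hn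
  choose qs hqs using fun j => IsLocalizedModule.surj T g (b j)
  choose h t ht using fun i => Module.FinitePresentation.exists_lift_of_isLocalizedModule T
    (Algebra.linearMap B Bp) ((b.coord i).restrictScalars B ∘ₗ g)
  have hh : ∀ i x, algebraMap B Bp (h i x) = algebraMap B Bp (t i : B) * b.coord i (g x) := by
    intro i x
    have := LinearMap.congr_fun (ht i) x
    simp only [LinearMap.comp_apply, Algebra.linearMap_apply, LinearMap.smul_apply,
      LinearMap.restrictScalars_apply, Submonoid.smul_def, Algebra.smul_def] at this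
    exact this
  have hg : ∀ j, g (qs j).1 = algebraMap B Bp ((qs j).2 : B) • b j := fun j => by
    rw [← hqs j, Submonoid.smul_def, algebraMap_smul]
  refine ⟨fun j => (qs j).1, h, ?_, ?_⟩
  · intro hdet
    have hu : IsUnit (algebraMap B Bp (Matrix.of fun i j => h i (qs j).1).det) := by
      rw [RingHom.map_det]
      have : (algebraMap B Bp).mapMatrix (Matrix.of fun i j => h i (qs j).1) =
          Matrix.diagonal fun i => algebraMap B Bp (t i : B) * algebraMap B Bp ((qs i).2 : B) := by
        ext i j
        simp only [RingHom.mapMatrix_apply, Matrix.map_apply, Matrix.of_apply, hh, hg, map_smul,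
          Module.Basis.coord_apply, Module.Basis.repr_self, smul_eq_mul, Matrix.diagonal_apply]
        by_cases hij : i = j
        · subst hij; simp
        · simp [hij, Finsupp.single_eq_of_ne hij]
      rw [this, Matrix.det_diagonal]
      exact IsUnit.prod_univ_iff.mpr fun i =>
        (IsLocalization.map_units Bp (t i)).mul (IsLocalization.map_units Bp (qs i).2)
    exact ((IsLocalization.AtPrime.isUnit_to_map_iff Bp p.asIdeal _).mp hu) hdet
  · intro x
    let S : B := ∏ i, ((t i : B) * ((qs i).2 : B))
    have hS : S ∈ T := Submonoid.prod_mem _ fun i _ => mul_mem (t i).2 (qs i).2.2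
    let y : P := ∑ i, ((∏ j ∈ Finset.univ.erase i, ((t j : B) * ((qs j).2 : B))) * h i x) • (qs i).1
    have hy : g y = g (S • x) := by
      rw [map_sum, map_smul]
      conv_rhs => rw [← b.sum_repr (g x), Finset.smul_sum]
      refine Finset.sum_congr rfl fun i _ => ?_
      rw [map_smul, ← algebraMap_smul Bp, hg, smul_smul, map_mul, hh,
        ← algebraMap_smul Bp S, smul_smul, Module.Basis.coord_apply]
      congr 1
      rw [show S = ((t i : B) * ((qs i).2 : B)) * ∏ j ∈ Finset.univ.erase i, ((t j : B) * ((qs j).2 : B))
        from (Finset.mul_prod_erase _ (fun j => ((t j : B) * ((qs j).2 : B))) (Finset.mem_univ i)).symm,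
        map_mul, map_mul]
      ring
    obtain ⟨c, hc⟩ := IsLocalizedModule.exists_of_eq (S := T) (f := g) hy
    refine ⟨(c : B) * S, mul_mem c.2 hS, ?_⟩
    rw [mul_smul, ← Submonoid.smul_def, ← hc]
    exact Submodule.smul_mem _ _ (Submodule.sum_mem _ fun i _ =>
      Submodule.smul_mem _ _ (Submodule.subset_span ⟨i, rfl⟩))

variable (hn : ∀ p : PrimeSpectrum B, Module.rankAtStalk P p = n)

include hn in
/-- Alternating forms in more variables than the rank vanish. -/
theorem alternating_eq_zero {N : Type w} [AddCommGroup N] [Module B N]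
    (F : P [⋀^Fin (n + 1)]→ₗ[B] N) (v : Fin (n + 1) → P) : F v = 0 := by
  classical
  have hann : (Submodule.span B {F v}).annihilator = ⊤ := by
    by_contra hne
    obtain ⟨𝔭, hmax, hle⟩ := Ideal.exists_le_maximal _ hne
    haveI := hmax.isPrime
    obtain ⟨q, -, -, hspan⟩ := exists_frame ⟨𝔭, hmax.isPrime⟩ (hn _)
    choose c hc hcv using fun i => hspan (v i)
    choose a ha using fun i => (Submodule.mem_span_range_iff_exists_fun B).mp (hcv i)
    have h0 : F (fun i => c i • v i) = 0 := by
      rw [show (fun i => c i • v i) = fun i => ∑ j, a i j • q j from funext fun i => (ha i).symm]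
      show F.toMultilinearMap _ = 0
      rw [MultilinearMap.map_sum]
      refine Finset.sum_eq_zero fun r _ => ?_
      rw [MultilinearMap.map_smul_univ]
      obtain ⟨i, j, hij, hne'⟩ : ∃ i j, r i = r j ∧ i ≠ j := by
        by_contra hcon
        push Not at hcon
        have := Fintype.card_le_of_injective r (fun i j e => hcon i j e)
        simp at this
      rw [show F.toMultilinearMap (fun i => q (r i)) = 0 from
        F.map_eq_zero_of_eq _ (show q (r i) = q (r j) by rw [hij]) hne', smul_zero]
    rw [show F (fun i => c i • v i) = (∏ i, c i) • F v from F.toMultilinearMap.map_smul_univ c v] at h0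
    exact (mul_notMem_aux c hc) (hle ((Submodule.mem_annihilator_span_singleton _ _).mpr h0))
  have := (Submodule.mem_annihilator_span_singleton (F v) (1 : B)).mp (hann ▸ Submodule.mem_top)
  rwa [one_smul] at this
where
  mul_notMem_aux {𝔭 : Ideal B} [𝔭.IsPrime] (c : Fin (n + 1) → B) (hc : ∀ i, c i ∉ 𝔭) :
      ∏ i, c i ∉ 𝔭 := fun h => by
    obtain ⟨i, -, hi⟩ := (Ideal.IsPrime.prod_mem_iff).mp h
    exact hc i hi

end Groth.Agent.LocInt28
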