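import Groth.Agent.Lib.LocInt28.Smooth
import Mathlib.RingTheory.Smooth.Locus
import Mathlib.RingTheory.Etale.Kaehler
import Mathlib.RingTheory.Finiteness.Projective

/-!
# The singular locus of a hypersurface in a smooth algebra
-/

set_option autoImplicit false
set_option linter.style.haveILetI false
universe u

open TensorProduct

namespace Groth.Agent.LocInt28

variable (A B R : Type u) [CommRing A] [CommRing B] [CommRing R]
  [Algebra A B] [Algebra B R] [Algebra A R] [IsScalarTower A B R]

theorem span_le_iff_notMem_smoothLocus [Algebra.Smooth A B] (g : B) (hg : IsSMulRegular B g)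
    (hsurj : Function.Surjective (algebraMap B R))
    (hker : RingHom.ker (algebraMap B R) = Ideal.span {g}) (p : PrimeSpectrum R) :
    Ideal.span (Set.range fun φ : Ω[B⁄A] →ₗ[B] B => algebraMap B R (φ (KaehlerDifferential.D A B g))) ≤
      p.asIdeal ↔ p ∉ Algebra.smoothLocus A R := by
  let q : Ideal B := p.asIdeal.comap (algebraMap B R)
  let f := Localization.localRingHom q p.asIdeal (algebraMap B R) rfl
  letI : Algebra (Localization.AtPrime q) (Localization.AtPrime p.asIdeal) := f.toAlgebra
  haveI : IsScalarTower A (Localization.AtPrime q) (Localization.AtPrime p.asIdeal) := by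
    refine IsScalarTower.of_algebraMap_eq fun a => ?_
    rw [IsScalarTower.algebraMap_apply A B (Localization.AtPrime q),
      RingHom.algebraMap_toAlgebra, Localization.localRingHom_to_map,
      ← IsScalarTower.algebraMap_apply A B R, ← IsScalarTower.algebraMap_apply A R _]
  haveI : Algebra.FormallySmooth B (Localization.AtPrime q) :=
    Algebra.FormallySmooth.of_isLocalization q.primeCompl
  haveI : Algebra.FormallySmooth A (Localization.AtPrime q) :=
    Algebra.FormallySmooth.comp A B _
  set g' : Localization.AtPrime q := algebraMap B _ g with hg'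
  have hgq : g ∈ q := by
    show algebraMap B R g ∈ p.asIdeal
    rw [show algebraMap B R g = 0 from by
      rw [← RingHom.mem_ker, hker]; exact Ideal.mem_span_singleton_self g]
    exact zero_mem _
  have hsurj' : Function.Surjective (algebraMap (Localization.AtPrime q) (Localization.AtPrime p.asIdeal)) := by
    intro y
    obtain ⟨r, s, rfl⟩ := IsLocalization.exists_mk'_eq p.asIdeal.primeCompl y
    obtain ⟨b, rfl⟩ := hsurj r
    obtain ⟨c, hc⟩ := hsurj s
    have hcq : c ∈ q.primeCompl := fun h => s.2 (hc ▸ h)
    refine ⟨IsLocalization.mk' _ b (⟨c, hcq⟩ : q.primeCompl), ?_⟩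
    rw [RingHom.algebraMap_toAlgebra, Localization.localRingHom_mk']
    congr 1
    exact Subtype.ext hc
  have hker' : RingHom.ker (algebraMap (Localization.AtPrime q) (Localization.AtPrime p.asIdeal)) =
      Ideal.span {g'} := by
    refine le_antisymm (fun x hx => ?_) ?_
    · obtain ⟨b, c, rfl⟩ := IsLocalization.exists_mk'_eq q.primeCompl x
      rw [RingHom.mem_ker, RingHom.algebraMap_toAlgebra, Localization.localRingHom_mk',
        IsLocalization.mk'_eq_zero_iff] at hx
      obtain ⟨⟨s, hs⟩, hsb⟩ := hx
      obtain ⟨d, rfl⟩ := hsurj s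
      have hdb : d * b ∈ Ideal.span {g} := by
        rw [← hker, RingHom.mem_ker, map_mul]; exact hsb
      obtain ⟨e, he⟩ := Ideal.mem_span_singleton'.mp hdb
      have hdu : IsUnit (algebraMap B (Localization.AtPrime q) d) :=
        IsLocalization.map_units _ (⟨d, hs⟩ : q.primeCompl)
      rw [← Ideal.unit_mul_mem_iff_mem _ hdu, IsLocalization.mul_mk'_eq_mk'_of_mul, ← he]
      refine Ideal.mem_span_singleton'.mpr ⟨IsLocalization.mk' _ e c, ?_⟩
      rw [hg', mul_comm, IsLocalization.mul_mk'_eq_mk'_of_mul, mul_comm g e]
    · rw [Ideal.span_singleton_le_iff_mem, RingHom.mem_ker, RingHom.algebraMap_toAlgebra, hg',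
        Localization.localRingHom_to_map,
        show algebraMap B R g = 0 from by
          rw [← RingHom.mem_ker, hker]; exact Ideal.mem_span_singleton_self g, map_zero]
  have hD : KaehlerDifferential.D A (Localization.AtPrime q) g' =
      KaehlerDifferential.map A A B (Localization.AtPrime q) (KaehlerDifferential.D A B g) := by
    rw [KaehlerDifferential.map_D]
  rw [Ideal.span_le]
  constructor
  · intro hall h
    have hg'' : IsSMulRegular (Localization.AtPrime q) g' := by
      intro x y hxy
      rw [← sub_eq_zero]
      obtain ⟨b, c, hbc⟩ := IsLocalization.exists_mk'_eq q.primeCompl (x - y)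
      have h0 : g' * (x - y) = 0 := by
        rw [mul_sub, sub_eq_zero]; exact hxy
      rw [← hbc, hg', IsLocalization.mul_mk'_eq_mk'_of_mul, IsLocalization.mk'_eq_zero_iff] at h0
      obtain ⟨m, hm⟩ := h0
      rw [← hbc, IsLocalization.mk'_eq_zero_iff]
      refine ⟨m, hg ?_⟩
      show g * ((m : B) * b) = g * 0
      rw [mul_zero, ← hm]; ring
    have hmem : KaehlerDifferential.D A B g ∈ q • (⊤ : Submodule B (Ω[B⁄A])) := by
      obtain ⟨m, fP, gP, -, -, hfg⟩ := Module.Finite.exists_comp_eq_id_of_projective B (Ω[B⁄A])
      rw [show KaehlerDifferential.D A B g = fP (gP (KaehlerDifferential.D A B g)) from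
        (LinearMap.congr_fun hfg _).symm, pi_eq_sum_univ' (gP _), map_sum]
      refine Submodule.sum_mem _ fun i _ => ?_
      rw [map_smul]
      exact Submodule.smul_mem_smul (hall ⟨LinearMap.proj i ∘ₗ gP, rfl⟩) Submodule.mem_top
    refine notMem_smul_top_of_formallySmooth g' hg'' hsurj' hker'
      ((IsLocalization.AtPrime.to_map_mem_maximal_iff _ q g).mpr hgq) h ?_
    rw [hD]
    refine Submodule.smul_induction_on hmem (fun r hr y _ => ?_) (fun x y hx hy => ?_)
    · rw [map_smul, ← algebraMap_smul (Localization.AtPrime q) r]
      exact Submodule.smul_mem_smul ((IsLocalization.AtPrime.to_map_mem_maximal_iff _ q r).mpr hr)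
        Submodule.mem_top
    · rw [map_add]; exact add_mem hx hy
  · intro hns
    rintro _ ⟨φ, rfl⟩
    by_contra hφ
    refine hns (formallySmooth_of_functional g' hsurj' hker'
      ((IsLocalizedModule.map q.primeCompl (KaehlerDifferential.map A A B (Localization.AtPrime q))
        (Algebra.linearMap B (Localization.AtPrime q)) φ).extendScalarsOfIsLocalization q.primeCompl _) ?_)
    rw [hD, LinearMap.extendScalarsOfIsLocalization_apply', IsLocalizedModule.map_apply]
    exact IsLocalization.map_units (Localization.AtPrime q)
      (⟨φ (KaehlerDifferential.D A B g), hφ⟩ : q.primeCompl)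

end Groth.Agent.LocInt28
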