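import Groth.Agent.Lib.LocInt28.Frame
import Mathlib.LinearAlgebra.ExteriorPower.Basic
import Mathlib.RingTheory.Kaehler.Basic
import Mathlib.RingTheory.Smooth.Locus
import Mathlib.RingTheory.Etale.Kaehler
import Mathlib.RingTheory.Smooth.Basic

/-!
# The singular locus of a hypersurface in a smooth algebra
-/

set_option autoImplicit false
universe u v w

open TensorProduct

namespace Groth.Agent.LocInt28

variable {R : Type u} [CommRing R] {P : Type v} [AddCommGroup P] [Module R P] [Module.Finite R P]
  [Module.Projective R P] {M : Type w} [AddCommGroup M] [Module R M] {n : ℕ}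

/-- The ideal of coefficients of a vector. -/
def contentIdeal (ω : P) : Ideal R := LinearMap.range (Module.Dual.eval R P ω)

theorem smul_ιMulti_eq_zero (hn : ∀ p : PrimeSpectrum R, Module.rankAtStalk P p = n) (π : P →ₗ[R] M)
    (ω : P) (hω : π ω = 0) (ψ : P →ₗ[R] R) (q : Fin n → P) :
    ψ ω • exteriorPower.ιMulti R n (π ∘ q) = 0 := by
  let F : P [⋀^Fin n]→ₗ[R] ⋀[R]^n M := (exteriorPower.ιMulti R n).compLinearMap π
  have h := alternating_eq_zero hn (AlternatingMap.alternatizeUncurryFin (ψ.smulRight F)) (Fin.cons ω q)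
  rw [AlternatingMap.alternatizeUncurryFin_apply, Finset.sum_eq_single 0] at h
  · simpa [F, Fin.removeNth_zero, AlternatingMap.compLinearMap_apply, Function.comp_def] using h
  · intro i _ hi
    cases n with
    | zero => exact absurd (Fin.eq_zero i) hi
    | succ m =>
      obtain ⟨j, rfl⟩ := Fin.exists_succ_eq.mpr hi
      rw [LinearMap.smulRight_apply, AlternatingMap.smul_apply, AlternatingMap.compLinearMap_apply,
        (exteriorPower.ιMulti R (m + 1)).map_coord_zero (i := (0 : Fin (m + 1)))
          (show π (Fin.removeNth j.succ (Fin.cons ω q : Fin (m + 2) → P) 0) = 0 by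
            simp [Fin.removeNth, Fin.succ_succAbove_zero, hω]),
        smul_zero, smul_zero]
  · simp

variable (R) in
/-- The determinant of a family of `R`-linear functionals with values in an `R`-algebra. -/
noncomputable def detForm {S : Type u} [CommRing S] [Algebra R S] (f : Fin n → (M →ₗ[R] S)) :
    M [⋀^Fin n]→ₗ[R] S :=
  ({ (Matrix.detRowAlternating (R := S) (n := Fin n)).toMultilinearMap.restrictScalars R with
      map_eq_zero_of_eq' := fun v i j h hij => (Matrix.detRowAlternating (R := S)).map_eq_zero_of_eq v h hij } :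
    (Fin n → S) [⋀^Fin n]→ₗ[R] S).compLinearMap (LinearMap.pi f)

theorem annihilator_exteriorPower (hn : ∀ p : PrimeSpectrum R, Module.rankAtStalk P p = n)
    (π : P →ₗ[R] M) (hπ : Function.Surjective π) (ω : P) (hker : LinearMap.ker π = Submodule.span R {ω}) :
    (⋀[R]^n M).annihilator = contentIdeal ω := by
  classical
  have hω : π ω = 0 := by
    rw [← LinearMap.mem_ker, hker]; exact Submodule.mem_span_singleton_self ω
  refine le_antisymm (fun a ha => ?_) ?_
  · set I : Ideal R := contentIdeal ω
    let J : Ideal R := Submodule.comap (LinearMap.lsmul R R a) I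
    suffices hJ : J = ⊤ by
      have h : a • (1 : R) ∈ I := show (1 : R) ∈ J from hJ ▸ Submodule.mem_top
      rwa [smul_eq_mul, mul_one] at h
    by_contra hne
    obtain ⟨𝔪, hmax, hle⟩ := Ideal.exists_le_maximal _ hne
    obtain ⟨q, f, hdet, -⟩ := exists_frame ⟨𝔪, hmax.isPrime⟩ (hn _)
    let e := π.quotKerEquivOfSurjective hπ
    have hf : ∀ i, LinearMap.ker π ≤ LinearMap.ker ((Ideal.Quotient.mkₐ R I).toLinearMap ∘ₗ f i) := by
      intro i
      rw [hker, Submodule.span_singleton_le_iff_mem, LinearMap.mem_ker]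
      exact Ideal.Quotient.eq_zero_iff_mem.mpr ⟨f i, rfl⟩
    let fb : Fin n → (M →ₗ[R] R ⧸ I) := fun i =>
      (LinearMap.ker π).liftQ _ (hf i) ∘ₗ e.symm.toLinearMap
    have hfb : ∀ i x, fb i (π x) = Ideal.Quotient.mk I (f i x) := fun i x => by
      show (LinearMap.ker π).liftQ _ (hf i) (e.symm (π x)) = _
      rw [show e.symm (π x) = Submodule.Quotient.mk x from e.symm_apply_eq.mpr rfl]
      rfl
    let D := exteriorPower.alternatingMapLinearEquiv (detForm R fb)
    have h0 : a • exteriorPower.ιMulti R n (π ∘ q) = 0 := Module.mem_annihilator.mp ha _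
    have h1 := congrArg D h0
    rw [map_smul, map_zero, exteriorPower.alternatingMapLinearEquiv_apply_ιMulti] at h1
    have h2 : detForm R fb (π ∘ q) = Ideal.Quotient.mk I (Matrix.of fun i j => f i (q j)).det := by
      show Matrix.det (fun j i => fb i (π (q j))) = _
      rw [← Matrix.det_transpose, RingHom.map_det]
      congr 1
      ext i j
      exact hfb i (q j)
    rw [h2, ← Ideal.Quotient.mk_eq_mk, ← Submodule.Quotient.mk_smul, Submodule.Quotient.mk_eq_zero] at h1
    exact hdet (hle h1)
  · rintro _ ⟨ψ, rfl⟩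
    refine Module.mem_annihilator.mpr fun z => ?_
    have hz : z ∈ Submodule.span R (Set.range (exteriorPower.ιMulti R n (M := M))) := by
      rw [exteriorPower.ιMulti_span]; trivial
    induction hz using Submodule.span_induction with
    | mem z hz =>
      obtain ⟨v, rfl⟩ := hz
      choose q hq using fun j => hπ (v j)
      rw [show v = π ∘ q from (funext hq).symm]
      exact smul_ιMulti_eq_zero hn π ω hω ψ q
    | zero => exact smul_zero _
    | add x y _ _ hx hy => rw [smul_add, hx, hy, add_zero]
    | smul c x _ hx => rw [smul_comm, hx, smul_zero]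

section Hypersurface

variable (A B R : Type u) [CommRing A] [CommRing B] [CommRing R]
  [Algebra A B] [Algebra B R] [Algebra A R] [IsScalarTower A B R]

theorem ker_mapBaseChange (g : B) (hsurj : Function.Surjective (algebraMap B R))
    (hker : RingHom.ker (algebraMap B R) = Ideal.span {g}) :
    LinearMap.ker (KaehlerDifferential.mapBaseChange A B R) =
      Submodule.span R {(1 : R) ⊗ₜ[B] KaehlerDifferential.D A B g} := by
  have hg : g ∈ RingHom.ker (algebraMap B R) := hker ▸ Ideal.mem_span_singleton_self g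
  have hex := KaehlerDifferential.exact_kerCotangentToTensor_mapBaseChange A B R hsurj
  refine le_antisymm (fun x hx => ?_) ?_
  · obtain ⟨c, rfl⟩ := (hex x).mp hx
    obtain ⟨⟨y, hy⟩, rfl⟩ := Ideal.toCotangent_surjective _ c
    obtain ⟨b, rfl⟩ := Ideal.mem_span_singleton'.mp (hker ▸ hy)
    rw [show (⟨b * g, hy⟩ : RingHom.ker (algebraMap B R)) = b • ⟨g, hg⟩ from rfl, map_smul, map_smul,
      KaehlerDifferential.kerCotangentToTensor_toCotangent, ← algebraMap_smul R b]
    exact Submodule.smul_mem _ _ (Submodule.mem_span_singleton_self _)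
  · rw [Submodule.span_singleton_le_iff_mem, LinearMap.mem_ker]
    exact (hex _).mpr ⟨Ideal.toCotangent _ ⟨g, hg⟩,
      KaehlerDifferential.kerCotangentToTensor_toCotangent A B R ⟨g, hg⟩⟩

theorem contentIdeal_eq [Module.Projective B (Ω[B⁄A])] (g : B)
    (hsurj : Function.Surjective (algebraMap B R)) :
    contentIdeal ((1 : R) ⊗ₜ[B] KaehlerDifferential.D A B g) =
      Ideal.span (Set.range fun φ : Ω[B⁄A] →ₗ[B] B => algebraMap B R (φ (KaehlerDifferential.D A B g))) := by
  refine le_antisymm ?_ ?_
  · rintro _ ⟨ψ, rfl⟩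
    obtain ⟨φ, hφ⟩ := Module.projective_lifting_property (Algebra.linearMap B R)
      (ψ.restrictScalars B ∘ₗ TensorProduct.mk B R (Ω[B⁄A]) 1) hsurj
    refine Ideal.subset_span ⟨φ, ?_⟩
    exact LinearMap.congr_fun hφ _
  · refine Ideal.span_le.mpr ?_
    rintro _ ⟨φ, rfl⟩
    refine ⟨(TensorProduct.AlgebraTensorModule.rid B R R).toLinearMap ∘ₗ φ.baseChange R, ?_⟩
    simp [Algebra.algebraMap_eq_smul_one]

theorem annihilator_hypersurface [Algebra.Smooth A B] (n : ℕ)
    (hn : ∀ p : PrimeSpectrum B, Module.rankAtStalk (Ω[B⁄A]) p = n)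
    (g : B) (hsurj : Function.Surjective (algebraMap B R))
    (hker : RingHom.ker (algebraMap B R) = Ideal.span {g}) :
    (⋀[R]^n (Ω[R⁄A])).annihilator =
      Ideal.span (Set.range fun φ : Ω[B⁄A] →ₗ[B] B => algebraMap B R (φ (KaehlerDifferential.D A B g))) := by
  rw [← contentIdeal_eq A B R g hsurj]
  refine annihilator_exteriorPower (fun p => ?_) _
    (KaehlerDifferential.mapBaseChange_surjective A B R hsurj) _ (ker_mapBaseChange A B R g hsurj hker)
  rw [Module.rankAtStalk_baseChange]
  exact hn _

end Hypersurface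

end Groth.Agent.LocInt28
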