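import Groth.Agent.Lib.LocInt28.Main
import Mathlib.RingTheory.Localization.Algebra

/-!
# Smooth points of a hypersurface in a smooth algebra
-/

set_option autoImplicit false
set_option linter.style.haveILetI false
universe u

open TensorProduct

namespace Groth.Agent.LocInt28

variable {A S T : Type u} [CommRing A] [CommRing S] [CommRing T]
    [Algebra A S] [Algebra S T] [Algebra A T] [IsScalarTower A S T] [Algebra.FormallySmooth A S]

theorem formallySmooth_of_functional (g : S)
    (hsurj : Function.Surjective (algebraMap S T)) (hker : RingHom.ker (algebraMap S T) = Ideal.span {g})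
    (φ : Ω[S⁄A] →ₗ[S] S) (hφ : IsUnit (φ (KaehlerDifferential.D A S g))) : Algebra.FormallySmooth A T := by
  rw [Algebra.FormallySmooth.iff_split_injection hsurj]
  obtain ⟨u, hu⟩ := hφ
  let K := RingHom.ker (algebraMap S T)
  have hgK : g ∈ K := by
    show g ∈ RingHom.ker _
    rw [hker]; exact Ideal.mem_span_singleton_self g
  let c : K.Cotangent := K.toCotangent ⟨g, hgK⟩
  have hzero : K ≤ LinearMap.ker (LinearMap.toSpanSingleton S K.Cotangent ((↑u⁻¹ : S) • c)) := by
    intro s hs
    rw [LinearMap.mem_ker, LinearMap.toSpanSingleton_apply, smul_smul, ← map_smul, Ideal.toCotangent_eq_zero]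
    show (s * (↑u⁻¹ : S)) * g ∈ K ^ 2
    rw [pow_two]
    exact Ideal.mul_mem_mul (Ideal.mul_mem_right _ _ hs) hgK
  let e : (S ⧸ K) ≃ₐ[S] T := Ideal.quotientKerAlgEquivOfSurjective (f := Algebra.ofId S T) hsurj
  let ψ : T ⊗[S] Ω[S⁄A] →ₗ[S] T := (TensorProduct.rid S T).toLinearMap ∘ₗ LinearMap.lTensor T φ
  refine ⟨Submodule.liftQ K _ hzero ∘ₗ e.symm.toLinearMap ∘ₗ ψ, LinearMap.ext fun z => ?_⟩
  obtain ⟨⟨y, hy⟩, rfl⟩ := K.toCotangent_surjective z
  obtain ⟨b, rfl⟩ := Ideal.mem_span_singleton'.mp (show y ∈ Ideal.span {g} by rw [← hker]; exact hy)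
  rw [show (⟨b * g, hy⟩ : K) = b • ⟨g, hgK⟩ from rfl, map_smul, map_smul, map_smul]
  congr 1
  rw [LinearMap.comp_apply, KaehlerDifferential.kerCotangentToTensor_toCotangent, LinearMap.comp_apply,
    LinearMap.comp_apply]
  have h1 : ψ ((1 : T) ⊗ₜ[S] KaehlerDifferential.D A S g) = algebraMap S T (u : S) := by
    simp [ψ, ← hu, Algebra.algebraMap_eq_smul_one]
  rw [h1, AlgEquiv.toLinearMap_apply, AlgEquiv.commutes]
  show LinearMap.toSpanSingleton S K.Cotangent ((↑u⁻¹ : S) • c) (u : S) = c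
  rw [LinearMap.toSpanSingleton_apply, smul_smul, Units.mul_inv, one_smul]

theorem notMem_smul_top_of_formallySmooth [IsLocalRing S] (g : S) (hg : IsSMulRegular S g)
    (hsurj : Function.Surjective (algebraMap S T)) (hker : RingHom.ker (algebraMap S T) = Ideal.span {g})
    (hgmax : g ∈ IsLocalRing.maximalIdeal S) (h : Algebra.FormallySmooth A T) :
    KaehlerDifferential.D A S g ∉ IsLocalRing.maximalIdeal S • (⊤ : Submodule S (Ω[S⁄A])) := by
  intro hD
  obtain ⟨l, hl⟩ := (Algebra.FormallySmooth.iff_split_injection hsurj).mp h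
  let K := RingHom.ker (algebraMap S T)
  have hgK : g ∈ K := by
    show g ∈ RingHom.ker _
    rw [hker]; exact Ideal.mem_span_singleton_self g
  let c : K.Cotangent := K.toCotangent ⟨g, hgK⟩
  have hc : c ∈ IsLocalRing.maximalIdeal S • (⊤ : Submodule S K.Cotangent) := by
    have h1 : l ((1 : T) ⊗ₜ[S] KaehlerDifferential.D A S g) = c := by
      rw [← KaehlerDifferential.kerCotangentToTensor_toCotangent A S T ⟨g, hgK⟩]
      exact LinearMap.congr_fun hl c
    rw [← h1]
    have h2 := Submodule.mem_map_of_mem (f := l ∘ₗ TensorProduct.mk S T (Ω[S⁄A]) 1) hD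
    rw [Submodule.map_smul''] at h2
    exact Submodule.smul_mono le_rfl le_top h2
  have htop : (⊤ : Submodule S K.Cotangent) = Submodule.span S {c} := by
    refine le_antisymm (fun z _ => ?_) le_top
    obtain ⟨⟨y, hy⟩, rfl⟩ := K.toCotangent_surjective z
    obtain ⟨b, rfl⟩ := Ideal.mem_span_singleton'.mp (show y ∈ Ideal.span {g} by rw [← hker]; exact hy)
    rw [show (⟨b * g, hy⟩ : K) = b • ⟨g, hgK⟩ from rfl, map_smul]
    exact Submodule.smul_mem _ _ (Submodule.mem_span_singleton_self _)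
  rw [htop, Submodule.mem_smul_span_singleton] at hc
  obtain ⟨m, hm, hmc⟩ := hc
  obtain ⟨v, hv⟩ := IsLocalRing.isUnit_one_sub_self_of_mem_nonunits m hm
  have hc0 : c = 0 := by
    have h3 : (v : S) • c = 0 := by rw [hv, sub_smul, one_smul, hmc, sub_self]
    calc c = ((↑v⁻¹ : S) * (v : S)) • c := by rw [Units.inv_mul, one_smul]
      _ = 0 := by rw [mul_smul, h3, smul_zero]
  have hc1 : g ∈ Ideal.span {g ^ 2} := by
    rw [← Ideal.span_singleton_pow, ← hker]
    exact (Ideal.toCotangent_eq_zero _ _).mp hc0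
  obtain ⟨b, hb⟩ := Ideal.mem_span_singleton'.mp hc1
  obtain ⟨w, hw⟩ := IsLocalRing.isUnit_one_sub_self_of_mem_nonunits (b * g)
    (Ideal.mul_mem_left _ b hgmax)
  have h4 : (w : S) * g = 0 := by
    rw [hw]
    have : b * g ^ 2 = g := hb
    linear_combination (-1 : S) * this
  have hg0 : g = 0 := (Units.mul_right_eq_zero w).mp h4
  subst hg0
  exact one_ne_zero (hg (show (0 : S) • (1 : S) = (0 : S) • (0 : S) by simp))

end Groth.Agent.LocInt28
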